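import Cfsg.Agent.Lib.Steiner11.Unique
import Cfsg.Agent.Lib.GolayUnique.Transport
import Cfsg.Agent.Lib.GolayUnique.Golay
import Cfsg.Agent.Lib.Golay.Simple

/-!
The automorphism groups of S(4,5,11) and S(5,6,12).
-/

set_option autoImplicit false
set_option linter.unusedSectionVars false

namespace Cfsg.Agent.Lib.Steiner11

open Finset GolayUnique Leech
open scoped Pointwise

/-! ### sharpness in the standard system -/

/-- All ordered selections of `n` entries. -/
def arr : ℕ → List ℕ → List (List ℕ)
  | 0, _ => [[]]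
  | n + 1, pool => pool.flatMap fun x => (arr n (pool.erase x)).map (x :: ·)

theorem mem_arr : ∀ (l pool : List ℕ), l.Nodup → (∀ x ∈ l, x ∈ pool) → l ∈ arr l.length pool
  | [], pool, _, _ => by simp [arr]
  | x :: l, pool, hn, hm => by
    simp only [List.length_cons, arr, List.mem_flatMap, List.mem_map]
    rw [List.nodup_cons] at hn
    refine ⟨x, hm x List.mem_cons_self, l, mem_arr l (pool.erase x) hn.2 fun y hy => ?_, rfl⟩
    exact (List.mem_erase_of_ne fun e : y = x => hn.1 (e ▸ hy)).mpr (hm y (List.mem_cons_of_mem _ hy))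

/-- A relabelling fixing five places. -/
def extendSix (t : List ℕ) : List ℕ := [0, 1, 2] ++ t ++ [9, 10]

theorem fix_check : ((arr 6 [3, 4, 5, 6, 7, 8]).all fun t =>
    !(stdBlocks.all fun b => stdBlocks.any (Nat.beq (mapMask (extendSix t) b))) ||
      decide (extendSix t = List.range 11)) = true := by decide +kernel

theorem six_ne : ∀ i : Fin 11, i ∈ [3, 4, 5, 6, 7, 8] → i ≠ 0 ∧ i ≠ 1 ∧ i ≠ 2 ∧ i ≠ 9 ∧ i ≠ 10 := by
  decide

theorem eq_one_of_fix_four {g : Equiv.Perm (Fin 11)} (hg : g ∈ setSystemAut stdSys)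
    (h0 : g 0 = 0) (h1 : g 1 = 1) (h9 : g 9 = 9) (h10 : g 10 = 10) : g = 1 := by
  have haut := mem_setSystemAut_iff.mp hg
  have hb0 : ({9, 10, 0, 1, 2} : Finset (Fin 11)) ∈ stdSys := by
    show mask _ ∈ stdBlocks
    decide +kernel
  have e0 : ({9, 10, 0, 1, 2} : Finset (Fin 11)).map g.toEmbedding = {9, 10, 0, 1, 2} :=
    std_eq_of_four (s := {9, 10, 0, 1}) ((haut _).mp hb0) hb0 (by decide)
      (by
        intro i hi
        simp only [Finset.mem_insert, Finset.mem_singleton] at hi
        rcases hi with rfl | rfl | rfl | rfl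
        exacts [Finset.mem_map.mpr ⟨9, by simp, h9⟩, Finset.mem_map.mpr ⟨10, by simp, h10⟩,
          Finset.mem_map.mpr ⟨0, by simp, h0⟩, Finset.mem_map.mpr ⟨1, by simp, h1⟩])
      (by decide)
  have h2 : g 2 = 2 := by
    have := Finset.mem_map_of_mem g.toEmbedding
      (show (2 : Fin 11) ∈ ({9, 10, 0, 1, 2} : Finset (Fin 11)) by decide)
    rw [e0] at this
    simp only [Equiv.coe_toEmbedding, Finset.mem_insert, Finset.mem_singleton] at this
    rcases this with e | e | e | e | e
    · exact absurd (g.injective (e.trans h9.symm)) (by decide)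
    · exact absurd (g.injective (e.trans h10.symm)) (by decide)
    · exact absurd (g.injective (e.trans h0.symm)) (by decide)
    · exact absurd (g.injective (e.trans h1.symm)) (by decide)
    · exact e
  set t : List ℕ := ([3, 4, 5, 6, 7, 8] : List (Fin 11)).map fun i => (g i : ℕ) with ht
  have htn : t.Nodup :=
    List.Nodup.map (fun i j e => g.injective (Fin.ext e)) (by decide)
  have htm : ∀ x ∈ t, x ∈ [3, 4, 5, 6, 7, 8] := by
    intro x hx
    obtain ⟨i, hi, rfl⟩ := List.mem_map.mp hx
    have hi' : i ≠ 0 ∧ i ≠ 1 ∧ i ≠ 2 ∧ i ≠ 9 ∧ i ≠ 10 := six_ne i hi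
    obtain ⟨a, b, c, d, e⟩ := hi'
    have : g i ≠ 0 ∧ g i ≠ 1 ∧ g i ≠ 2 ∧ g i ≠ 9 ∧ g i ≠ 10 :=
      ⟨fun h => a (g.injective (h.trans h0.symm)), fun h => b (g.injective (h.trans h1.symm)),
        fun h => c (g.injective (h.trans h2.symm)), fun h => d (g.injective (h.trans h9.symm)),
        fun h => e (g.injective (h.trans h10.symm))⟩
    revert this
    generalize g i = z
    revert z
    decide
  have hmem : t ∈ arr 6 [3, 4, 5, 6, 7, 8] := mem_arr t _ htn htm
  have hget : ∀ i : Fin 11, (extendSix t).getD i 0 = g i := by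
    intro i
    fin_cases i <;> simp [extendSix, ht, h0, h1, h2, h9, h10]
  have hpres : (stdBlocks.all fun b => stdBlocks.any (Nat.beq (mapMask (extendSix t) b))) = true := by
    rw [List.all_eq_true]
    intro m hm
    have hlt : m < 2 ^ 11 := by
      have : (stdBlocks.all fun b => Nat.blt b 2048) = true := by decide +kernel
      simpa [Nat.blt_eq] using List.all_eq_true.mp this m hm
    set b : Finset (Fin 11) := univ.filter fun i => m.testBit i with hb
    have hbm : mask b = m := by
      apply Nat.eq_of_testBit_eq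
      intro i
      rcases Nat.lt_or_ge i 11 with hi | hi
      · rw [Bool.eq_iff_iff, testBit_mask _ ⟨i, hi⟩]; simp [hb]
      · rw [testBit_mask_ge _ hi]
        exact (Nat.testBit_eq_false_of_lt (hlt.trans_le (Nat.pow_le_pow_right (by norm_num) hi))).symm
    rw [List.any_eq_true, ← hbm, mapMask_mask g hget]
    refine ⟨mask (b.map g.toEmbedding), (haut b).mp (show mask b ∈ stdBlocks from hbm ▸ hm), ?_⟩
    rw [Finset.map_eq_image, Nat.beq_eq]
    rfl
  have := List.all_eq_true.mp fix_check t hmem
  rw [hpres] at this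
  simp only [Bool.not_true, Bool.false_or, decide_eq_true_eq] at this
  refine Equiv.ext fun i => Fin.ext ?_
  rw [← hget i, this, List.getD_eq_getElem _ _ (by simp), List.getElem_range]
  rfl

/-! ### the models -/

/-- The points of the dodecad of squares. -/
abbrev DPt : Type := {p : GolayPt // p ∈ Spor.squareDodecad}

/-- The hexads: traces of octads on the dodecad. -/
def sys12 : Set (Finset DPt) :=
  {b | b.card = 6 ∧ ∃ o ∈ octads, o ∩ Spor.squareDodecad = b.map (Function.Embedding.subtype _)}

theorem card_dpt : Fintype.card DPt = 12 := by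
  rw [Fintype.card_coe, Golay.squareDodecad_mem.2]

theorem sys12_steiner : IsSteinerSystem 5 6 sys12 := by
  refine ⟨fun b hb => hb.1, fun s hs => ?_⟩
  obtain ⟨o, ⟨ho, hso⟩, huniq⟩ :=
    Golay.octads_steiner.2 (s.map (Function.Embedding.subtype _)) (by rw [Finset.card_map, hs])
  set d := Spor.squareDodecad with hd
  have hdd : d ∈ dodecads := Golay.squareDodecad_mem
  have h5 : 5 ≤ (o ∩ d).card := by
    rw [← hs, ← Finset.card_map (Function.Embedding.subtype _) (s := s)]
    refine Finset.card_le_card (Finset.subset_inter hso fun p hp => ?_)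
    obtain ⟨q, -, rfl⟩ := Finset.mem_map.mp hp
    exact q.2
  have h8 : (o ∩ d).card ≤ 8 := ho.2 ▸ Finset.card_le_card Finset.inter_subset_left
  have h6 : (o ∩ d).card = 6 := by
    have hev := golay_good.even_inter (mem_golaySets.mpr ho.1) (mem_golaySets.mpr hdd.1)
    have hw := golay_good.weight _ (golay_good.symmDiff_mem _ (mem_golaySets.mpr ho.1) _
      (mem_golaySets.mpr hdd.1))
    have he := GolayUnique.card_symmDiff_add o d
    rw [ho.2, hdd.2] at he
    rw [even_iff_two_dvd] at hev
    omega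
  set b : Finset DPt := (o ∩ d).subtype (· ∈ d) with hb
  have hmap : b.map (Function.Embedding.subtype _) = o ∩ d := by
    rw [hb, Finset.subtype_map, Finset.filter_true_of_mem fun p hp => (Finset.mem_inter.mp hp).2]
  refine ⟨b, ⟨⟨by rw [← Finset.card_map (Function.Embedding.subtype _), hmap, h6], o, ho,
    hmap.symm⟩, fun q hq => ?_⟩, ?_⟩
  · rw [hb, Finset.mem_subtype]
    exact Finset.mem_inter.mpr ⟨hso (Finset.mem_map_of_mem _ hq), q.2⟩
  · rintro c ⟨⟨-, o', ho', hc⟩, hsc⟩
    have : o' = o := huniq o' ⟨ho', fun p hp => by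
      have := (Finset.map_subset_map (f := Function.Embedding.subtype _)).mpr hsc hp
      rw [← hc] at this
      exact (Finset.mem_inter.mp this).1⟩
    rw [this, ← hmap] at hc
    exact (Finset.map_inj.mp hc).symm

/-- Restriction of the dodecad stabiliser to the dodecad. -/
noncomputable def res12 : ↥(Golay.dodecadStab Spor.squareDodecad) →* setSystemAut sys12 where
  toFun g := ⟨(g : Equiv.Perm GolayPt).subtypePerm (Golay.apply_mem_iff_of_stab g.2), by
    rw [mem_setSystemAut_iff]
    intro b
    obtain ⟨hg, hgd⟩ := Golay.mem_dodecadStab.mp g.2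
    have e : (b.map (Equiv.toEmbedding ((g : Equiv.Perm GolayPt).subtypePerm
        (Golay.apply_mem_iff_of_stab g.2)))).map (Function.Embedding.subtype _) =
        (b.map (Function.Embedding.subtype _)).map (g : Equiv.Perm GolayPt).toEmbedding := by
      rw [Finset.map_map, Finset.map_map]
      rfl
    simp only [sys12, Set.mem_ofPred_eq, Finset.card_map, e]
    refine and_congr_right' ⟨fun ⟨o, ho, h⟩ => ⟨_, Golay.smul_mem_octads hg ho, ?_⟩,
      fun ⟨o, ho, h⟩ => ⟨_, Golay.smul_mem_octads (inv_mem hg) ho, ?_⟩⟩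
    · rw [← smul_eq_map, ← h, Finset.smul_finset_inter, hgd]
    · apply MulAction.injective (g : Equiv.Perm GolayPt)
      simp only [Finset.smul_finset_inter, smul_inv_smul, hgd, h]
      exact (smul_eq_map _ _).symm⟩
  map_one' := Subtype.ext (Equiv.ext fun _ => rfl)
  map_mul' _ _ := Subtype.ext (Equiv.ext fun _ => rfl)

theorem res12_apply (g : ↥(Golay.dodecadStab Spor.squareDodecad)) (p : DPt) :
    ((res12 g : Equiv.Perm DPt) p : GolayPt) = (g : Equiv.Perm GolayPt) p := rfl

theorem res12_injective : Function.Injective res12 := by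
  rw [injective_iff_map_eq_one]
  intro g hg
  obtain ⟨x⟩ := Golay.exists_tuple Golay.squareDodecad_mem
  apply Golay.tupleMap_injective Golay.squareDodecad_mem x
  refine DFunLike.ext _ _ fun i => Subtype.ext ?_
  show (g : Equiv.Perm GolayPt) (x i) = ((1 : Golay.dodecadStab _) : Equiv.Perm GolayPt) (x i)
  rw [← res12_apply g (x i), hg]
  rfl

/-- The point `0` of the dodecad. -/
def zeroPt : DPt := ⟨some 0, by rw [Golay.squareDodecad_eq]; decide +kernel⟩

/-- Eleven points. -/
abbrev EPt : Type := {a : DPt // a ≠ zeroPt}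

theorem card_ept : Fintype.card EPt = 11 := by
  rw [Fintype.card_subtype_compl, Fintype.card_subtype_eq, card_dpt]

/-- The derived system. -/
abbrev sys11 : Set (Finset EPt) := derivedAt sys12 zeroPt

theorem sys11_steiner : IsSteinerSystem 4 5 sys11 :=
  Golay.Steiner.derived (t := 4) (k := 5) sys12_steiner zeroPt

/-- An automorphism fixing the point gives one of the derived system. -/
theorem restrict_mem {α : Type*} [DecidableEq α] {B : Set (Finset α)} {p : α} {g : Equiv.Perm α}
    (hg : g ∈ setSystemAut B) (hp : g p = p) :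
    g.subtypePerm (p := fun a => a ≠ p) (fun a => not_congr (by
      conv_lhs => rw [← hp, g.injective.eq_iff])) ∈ setSystemAut (derivedAt B p) := by
  set g' : Equiv.Perm {a : α // a ≠ p} := g.subtypePerm (p := fun a => a ≠ p) (fun a => not_congr
    (by conv_lhs => rw [← hp, g.injective.eq_iff])) with hg'
  have key : ∀ b : Finset α, (Finset.subtype (fun a => a ≠ p) b).map g'.toEmbedding =
      Finset.subtype (fun a => a ≠ p) (b.map g.toEmbedding) := fun b => by
    ext y
    obtain ⟨x, rfl⟩ := g'.surjective y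
    rw [← Equiv.coe_toEmbedding, Finset.mem_map', Finset.mem_subtype, Finset.mem_subtype]
    exact (Finset.mem_map' g.toEmbedding).symm
  rw [mem_setSystemAut_iff]
  intro b'
  constructor
  · rintro ⟨b, hb, hpb, rfl⟩
    rw [key]
    exact ⟨_, (mem_setSystemAut_iff.mp hg b).mp hb, by
      rw [← hp]; exact Finset.mem_map_of_mem _ hpb, rfl⟩
  · rintro ⟨c, hc, hpc, e⟩
    have hc' : c = (c.map g.symm.toEmbedding).map g.toEmbedding := by simp [Finset.map_map]
    refine ⟨c.map g.symm.toEmbedding, (mem_setSystemAut_iff.mp hg _).mpr (hc' ▸ hc), ?_, ?_⟩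
    · rw [Finset.mem_map_equiv, Equiv.symm_symm, hp]; exact hpc
    · apply Finset.map_injective g'.toEmbedding
      rw [key, ← hc', e]

/-- Restriction of M₁₁ to the eleven points. -/
noncomputable def res11 : Spor.M11 →* setSystemAut sys11 where
  toFun g := ⟨_, restrict_mem (res12 ⟨g.1, g.2.1⟩).2
    (show (res12 ⟨g.1, g.2.1⟩ : Equiv.Perm DPt) zeroPt = zeroPt from Subtype.ext g.2.2)⟩
  map_one' := Subtype.ext (Equiv.ext fun _ => rfl)
  map_mul' _ _ := Subtype.ext (Equiv.ext fun _ => rfl)

theorem res11_apply (g : Spor.M11) (a : EPt) :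
    (((res11 g : Equiv.Perm EPt) a : DPt) : GolayPt) = (g : Equiv.Perm GolayPt) a.1.1 := rfl

theorem res11_injective : Function.Injective res11 := by
  intro g g' e
  have h : res12 ⟨g.1, g.2.1⟩ = res12 ⟨g'.1, g'.2.1⟩ := Subtype.ext (Equiv.ext fun a =>
    Subtype.ext (by
      rcases eq_or_ne a zeroPt with rfl | ha
      · exact (g.2.2 : g.1 (some 0) = some 0).trans (g'.2.2 : g'.1 (some 0) = some 0).symm
      · exact congrArg (fun z : setSystemAut sys11 =>
          ((((z : Equiv.Perm EPt) ⟨a, ha⟩) : DPt) : GolayPt)) e))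
  exact Subtype.ext (congrArg Subtype.val (res12_injective h) :)

theorem transitive11 : MulAction.IsMultiplyPretransitive (setSystemAut sys11) EPt 4 := by
  rw [MulAction.isMultiplyPretransitive_iff]
  intro x y
  have mk : ∀ z : Fin 4 ↪ EPt, Function.Injective
      (Fin.cons (some 0) (fun i => (z i).1.1) : Fin 5 → GolayPt) := fun z => by
    rw [Fin.cons_injective_iff]
    refine ⟨?_, fun i j e => z.injective (Subtype.ext (Subtype.ext e))⟩
    rintro ⟨i, hi⟩
    exact (z i).2 (Subtype.ext hi)
  have mem : ∀ z : Fin 4 ↪ EPt, ∀ i,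
      (Fin.cons (some 0) (fun i => (z i).1.1) : Fin 5 → GolayPt) i ∈ Spor.squareDodecad := fun z i => by
    refine Fin.cases ?_ (fun j => ?_) i
    · exact zeroPt.2
    · exact (z j).1.2
  obtain ⟨g, hg, he⟩ := Golay.dodecad_map_tuple Golay.squareDodecad_mem (n := 5) le_rfl
    ⟨_, mk x⟩ ⟨_, mk y⟩ (mem x) (mem y)
  refine ⟨res11 ⟨g, ⟨hg, ?_⟩⟩, ?_⟩
  · exact he 0
  · exact Function.Embedding.ext fun i => Subtype.ext (Subtype.ext (he i.succ))

theorem transitive12 : MulAction.IsMultiplyPretransitive (setSystemAut sys12) DPt 5 := by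
  rw [MulAction.isMultiplyPretransitive_iff]
  intro x y
  obtain ⟨g, hg, he⟩ := Golay.dodecad_map_tuple Golay.squareDodecad_mem (n := 5) le_rfl
    (x.trans (Function.Embedding.subtype _)) (y.trans (Function.Embedding.subtype _))
    (fun i => (x i).2) (fun i => (y i).2)
  exact ⟨res12 ⟨g, hg⟩, Function.Embedding.ext fun i => Subtype.ext (he i)⟩

/-! ### any system -/

variable {α : Type*} [Fintype α] [DecidableEq α] {B : Set (Finset α)}

theorem transitive_four (hα : Fintype.card α = 11) (hB : IsSteinerSystem 4 5 B) :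
    MulAction.IsMultiplyPretransitive (setSystemAut B) α 4 := by
  obtain ⟨f, hf⟩ := unique_four hα card_ept hB sys11_steiner
  exact isMultiplyPretransitive_of_equiv f hf transitive11

theorem sharp_four (hα : Fintype.card α = 11) (hB : IsSteinerSystem 4 5 B) :
    ∀ x : Fin 4 ↪ α, MulAction.stabilizer (setSystemAut B) x = ⊥ := by
  intro x
  obtain ⟨e, he⟩ := iso_std hα hB
  haveI := transitive_four hα hB
  let x₀ : Fin 4 ↪ α := (⟨![0, 1, 9, 10], by decide⟩ : Fin 4 ↪ Fin 11).trans e.symm.toEmbedding
  obtain ⟨k, hk⟩ := MulAction.exists_smul_eq (setSystemAut B) x₀ x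
  rw [eq_bot_iff]
  intro g hg
  have h1 : (k⁻¹ * g * k) • x₀ = x₀ := by
    have hk' : ∀ i, (k : Equiv.Perm α) (x₀ i) = x i := fun i => DFunLike.congr_fun hk i
    have hg' : ∀ i, (g : Equiv.Perm α) (x i) = x i :=
      fun i => DFunLike.congr_fun (MulAction.mem_stabilizer_iff.mp hg) i
    apply Function.Embedding.ext
    intro i
    show ((k⁻¹ * g * k : setSystemAut B) : Equiv.Perm α) (x₀ i) = x₀ i
    simp only [Subgroup.coe_mul, Subgroup.coe_inv, Equiv.Perm.mul_apply, hk', hg']
    rw [← hk', Equiv.Perm.inv_def, Equiv.symm_apply_apply]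
  have h2 : autEquiv e he (k⁻¹ * g * k) = 1 := by
    have hfix : ∀ i, (autEquiv e he (k⁻¹ * g * k) : Equiv.Perm (Fin 11)) (![0, 1, 9, 10] i) =
        ![0, 1, 9, 10] i := fun i => by
      have h3 : ((k⁻¹ * g * k : setSystemAut B) : Equiv.Perm α) (x₀ i) = x₀ i :=
        DFunLike.congr_fun h1 i
      have h4 := autEquiv_apply e he (k⁻¹ * g * k) (x₀ i)
      rw [h3] at h4
      simpa [x₀] using h4
    exact Subtype.ext (eq_one_of_fix_four (autEquiv e he _).2 (hfix 0) (hfix 1) (hfix 2) (hfix 3))
  have h5 : k⁻¹ * g * k = 1 := (autEquiv e he).injective (h2.trans (map_one _).symm)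
  rw [mul_assoc, inv_mul_eq_one] at h5
  exact Subgroup.mem_bot.mpr (mul_eq_right.mp h5.symm)

theorem card_le_of_sharp {n : ℕ} (hn : n ≤ Fintype.card α)
    (h : ∀ x : Fin n ↪ α, MulAction.stabilizer (setSystemAut B) x = ⊥) :
    Nat.card (setSystemAut B) ≤ (Fintype.card α).descFactorial n := by
  obtain ⟨x⟩ : Nonempty (Fin n ↪ α) :=
    Function.Embedding.nonempty_of_card_le (by simpa using hn)
  refine (Nat.card_le_card_of_injective (fun g : setSystemAut B => g • x) fun g g' e => ?_).trans
    (by rw [Nat.card_eq_fintype_card, Fintype.card_embedding_eq, Fintype.card_fin])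
  have hm : g'⁻¹ * g ∈ MulAction.stabilizer (setSystemAut B) x := by
    rw [MulAction.mem_stabilizer_iff, mul_smul]
    exact inv_smul_eq_iff.mpr e
  rw [h, Subgroup.mem_bot] at hm
  exact (inv_mul_eq_one.mp hm).symm

theorem exists_equiv_M11 (hα : Fintype.card α = 11) (hB : IsSteinerSystem 4 5 B) :
    Nonempty (Spor.M11 ≃* setSystemAut B) := by
  obtain ⟨f, hf⟩ := unique_four card_ept hα sys11_steiner hB
  have hle := card_le_of_sharp (by rw [card_ept]; norm_num) (sharp_four card_ept sys11_steiner)
  rw [card_ept] at hle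
  have hge := Nat.card_le_card_of_injective _ res11_injective
  rw [Golay.card_spor_M11] at hge
  rw [show Nat.descFactorial 11 4 = 7920 by decide] at hle
  have hb : Function.Bijective res11 := (Nat.bijective_iff_injective_and_card _).mpr
    ⟨res11_injective, by rw [Golay.card_spor_M11]; omega⟩
  exact ⟨(MulEquiv.ofBijective res11 hb).trans (autEquiv f hf)⟩

theorem transitive_five (hα : Fintype.card α = 12) (hB : IsSteinerSystem 5 6 B) :
    MulAction.IsMultiplyPretransitive (setSystemAut B) α 5 := by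
  obtain ⟨f, hf⟩ := unique_five hα card_dpt hB sys12_steiner
  exact isMultiplyPretransitive_of_equiv f hf transitive12

theorem sharp_five (hα : Fintype.card α = 12) (hB : IsSteinerSystem 5 6 B) :
    ∀ x : Fin 5 ↪ α, MulAction.stabilizer (setSystemAut B) x = ⊥ := by
  intro x
  rw [eq_bot_iff]
  intro g hg
  have hi : ∀ i, (g : Equiv.Perm α) (x i) = x i :=
    DFunLike.congr_fun (MulAction.mem_stabilizer_iff.mp hg)
  set p := x 0 with hp
  have hc : Fintype.card {a : α // a ≠ p} = 11 := by
    rw [Fintype.card_subtype_compl, Fintype.card_subtype_eq, hα]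
  have hs := sharp_four hc (Golay.Steiner.derived (t := 4) (k := 5) hB p)
  let y : Fin 4 ↪ {a : α // a ≠ p} :=
    ⟨fun i => ⟨x i.succ, fun e => absurd (x.injective e) (Fin.succ_ne_zero i)⟩,
      fun i j e => Fin.succ_injective _ (x.injective (congrArg Subtype.val e))⟩
  have hm : (⟨_, restrict_mem g.2 (hi 0)⟩ : setSystemAut (derivedAt B p)) ∈
      MulAction.stabilizer (setSystemAut (derivedAt B p)) y := by
    rw [MulAction.mem_stabilizer_iff]
    ext i
    exact hi i.succ
  rw [show MulAction.stabilizer (setSystemAut (derivedAt B p)) y = ⊥ from hs y,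
    Subgroup.mem_bot] at hm
  refine Subgroup.mem_bot.mpr (Subtype.ext (Equiv.ext fun a => ?_))
  rcases eq_or_ne a p with rfl | ha
  · exact hi 0
  · exact congrArg (fun z : setSystemAut (derivedAt B p) =>
      (((z : Equiv.Perm {a : α // a ≠ p}) ⟨a, ha⟩) : α)) hm

theorem exists_equiv_M12 (hα : Fintype.card α = 12) (hB : IsSteinerSystem 5 6 B) :
    Nonempty (Spor.M12 ≃* setSystemAut B) := by
  obtain ⟨f, hf⟩ := unique_five card_dpt hα sys12_steiner hB
  have hle := card_le_of_sharp (by rw [card_dpt]; norm_num) (sharp_five card_dpt sys12_steiner)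
  rw [card_dpt] at hle
  have hge := Nat.card_le_card_of_injective _ res12_injective
  rw [Golay.card_dodecadStab Golay.squareDodecad_mem] at hge
  rw [show Nat.descFactorial 12 5 = 95040 by decide] at hle
  have hb : Function.Bijective res12 := (Nat.bijective_iff_injective_and_card _).mpr
    ⟨res12_injective, by rw [Golay.card_dodecadStab Golay.squareDodecad_mem]; omega⟩
  exact ⟨(MulEquiv.ofBijective res12 hb).trans (autEquiv f hf)⟩

end Cfsg.Agent.Lib.Steiner11
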