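import Mathlib

/-!
Exhaustive search for the S(4,5,11) with four prescribed blocks, on the masks of subsets of `0, ..., 10`.
-/

set_option autoImplicit false

namespace Cfsg.Agent.Lib.Steiner11

/-- `T` is a submask of `c`. -/
def sub (T c : ℕ) : Bool := Nat.beq (T &&& c) T

/-- The two five-element masks differ in more than two places. -/
def compat (b c : ℕ) : Bool :=
  let x := b ^^^ c
  let y := x &&& (x - 1)
  !(Nat.beq (y &&& (y - 1)) 0)

/-- The number of ones among the first eleven digits. -/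
def pop (m : ℕ) : ℕ := ((List.range 11).filter fun i => m.testBit i).length

/-- All ways to cover `need` exactly by compatible candidates. -/
def solve : ℕ → List ℕ → List ℕ → List (List ℕ)
  | 0, _, _ => []
  | _ + 1, [], _ => [[]]
  | f + 1, T :: need, cand => (cand.filter fun c => sub T c).flatMap fun b =>
      (solve f (need.filter fun q => !(sub q b)) (cand.filter fun c => compat b c)).map (b :: ·)

theorem solve_sound (P : ℕ → Prop) (hP : ∀ b c, P b → P c → b ≠ c → compat b c = true) :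
    ∀ (f : ℕ) (need cand : List ℕ), need.length < f →
      (∀ T ∈ need, ∃ b ∈ cand, P b ∧ sub T b = true) →
      ∃ L ∈ solve f need cand, (∀ b ∈ L, P b) ∧ ∀ T ∈ need, ∃ b ∈ L, sub T b = true := by
  intro f
  induction f with
  | zero => intro need cand h; omega
  | succ f ih =>
    intro need cand hlen hcov
    cases need with
    | nil => exact ⟨[], by simp [solve], by simp, by simp⟩
    | cons T need =>
      obtain ⟨b, hb, hPb, hTb⟩ := hcov T List.mem_cons_self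
      obtain ⟨L, hL, hLP, hLc⟩ := ih (need.filter fun q => !(sub q b))
        (cand.filter fun c => compat b c)
        (by
          have := List.length_filter_le (fun q => !(sub q b)) need
          simp only [List.length_cons] at hlen
          omega)
        (fun U hU => by
          rw [List.mem_filter] at hU
          obtain ⟨c, hc, hPc, hUc⟩ := hcov U (List.mem_cons_of_mem _ hU.1)
          have hne : b ≠ c := by
            rintro rfl
            simp [hUc] at hU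
          exact ⟨c, List.mem_filter.mpr ⟨hc, hP b c hPb hPc hne⟩, hPc, hUc⟩)
      refine ⟨b :: L, ?_, ?_, ?_⟩
      · simp only [solve, List.mem_flatMap, List.mem_filter, List.mem_map]
        exact ⟨b, ⟨hb, hTb⟩, L, hL, rfl⟩
      · intro c hc
        rcases List.mem_cons.mp hc with rfl | hc
        exacts [hPb, hLP c hc]
      · intro U hU
        rcases List.mem_cons.mp hU with rfl | hU
        · exact ⟨b, List.mem_cons_self, hTb⟩
        · by_cases hUb : sub U b = true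
          · exact ⟨b, List.mem_cons_self, hUb⟩
          · obtain ⟨c, hc, hUc⟩ := hLc U (List.mem_filter.mpr ⟨hU, by simpa using hUb⟩)
            exact ⟨c, List.mem_cons_of_mem _ hc, hUc⟩

/-- The masks of the subsets of a list with `k` elements, in lexicographic order. -/
def comb : List ℕ → ℕ → List ℕ
  | _, 0 => [0]
  | [], _ + 1 => []
  | x :: xs, k + 1 => (comb xs k).map (2 ^ x + ·) ++ comb xs (k + 1)

/-- The prescribed blocks `{9,10,0,i,j}`. -/
def fixedBlocks : List ℕ := [2 ^ 9 + 2 ^ 10 + 1 + 2 ^ 1 + 2 ^ 2, 2 ^ 9 + 2 ^ 10 + 1 + 2 ^ 3 + 2 ^ 6,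
  2 ^ 9 + 2 ^ 10 + 1 + 2 ^ 4 + 2 ^ 8, 2 ^ 9 + 2 ^ 10 + 1 + 2 ^ 5 + 2 ^ 7]

/-- The four-element masks not inside a prescribed block. -/
def needList : List ℕ :=
  (comb (List.range 11) 4).filter fun q => fixedBlocks.all fun b => !(sub q b)

/-- The five-element masks compatible with the prescribed blocks. -/
def candList : List ℕ :=
  (comb (List.range 11) 5).filter fun c => fixedBlocks.all fun b => compat b c

/-- The standard system. -/
def stdBlocks : List ℕ := [31, 107, 124, 167, 186, 205, 214, 241, 302, 309, 327, 345, 370, 403, 412, 425, 458, 484, 566, 569, 590, 595, 613, 651, 661, 684, 728, 738, 781, 794, 803, 852, 872, 902, 944, 961, 1069, 1075, 1109, 1114, 1126, 1166, 1177, 1204, 1219, 1256, 1291, 1302, 1336, 1356, 1377, 1413, 1442, 1488, 1543, 1564, 1578, 1609, 1648, 1682, 1697, 1732, 1809, 1828, 1858, 1928]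

/-- The relabellings onto the standard system, one for each solution of the search. -/
def perms : List (List ℕ) := [
  [0, 1, 2, 3, 4, 5, 6, 7, 8, 9, 10],
  [0, 1, 2, 3, 4, 10, 8, 9, 6, 7, 5],
  [0, 1, 2, 3, 4, 5, 6, 7, 8, 10, 9],
  [0, 1, 2, 3, 4, 10, 8, 9, 6, 5, 7],
  [0, 1, 2, 3, 4, 9, 8, 10, 6, 7, 5],
  [0, 1, 2, 3, 4, 7, 6, 5, 8, 9, 10],
  [0, 1, 2, 3, 4, 9, 8, 10, 6, 5, 7],
  [0, 1, 2, 3, 4, 7, 6, 5, 8, 10, 9],
  [0, 1, 2, 3, 5, 4, 6, 8, 7, 10, 9],
  [0, 1, 2, 3, 10, 4, 8, 6, 9, 5, 7],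
  [0, 1, 2, 3, 5, 4, 6, 8, 7, 9, 10],
  [0, 1, 2, 3, 10, 4, 8, 6, 9, 7, 5],
  [0, 1, 2, 3, 9, 4, 8, 6, 10, 7, 5],
  [0, 1, 2, 3, 7, 4, 6, 8, 5, 9, 10],
  [0, 1, 2, 3, 9, 4, 8, 6, 10, 5, 7],
  [0, 1, 2, 3, 7, 4, 6, 8, 5, 10, 9],
  [0, 1, 2, 3, 7, 5, 4, 10, 9, 6, 8],
  [0, 1, 2, 3, 9, 10, 4, 5, 7, 8, 6],
  [0, 1, 2, 3, 7, 5, 4, 10, 9, 8, 6],
  [0, 1, 2, 3, 9, 10, 4, 5, 7, 6, 8],
  [0, 1, 2, 3, 10, 9, 4, 7, 5, 8, 6],
  [0, 1, 2, 3, 5, 7, 4, 9, 10, 6, 8],
  [0, 1, 2, 3, 10, 9, 4, 7, 5, 6, 8],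
  [0, 1, 2, 3, 5, 7, 4, 9, 10, 8, 6],
  [0, 1, 2, 3, 7, 10, 4, 5, 9, 8, 6],
  [0, 1, 2, 3, 9, 5, 4, 10, 7, 6, 8],
  [0, 1, 2, 3, 7, 10, 4, 5, 9, 6, 8],
  [0, 1, 2, 3, 9, 5, 4, 10, 7, 8, 6],
  [0, 1, 2, 3, 10, 7, 4, 9, 5, 8, 6],
  [0, 1, 2, 3, 5, 9, 4, 7, 10, 6, 8],
  [0, 1, 2, 3, 10, 7, 4, 9, 5, 6, 8],
  [0, 1, 2, 3, 5, 9, 4, 7, 10, 8, 6],
  [0, 1, 2, 3, 5, 8, 6, 4, 7, 10, 9],
  [0, 1, 2, 3, 10, 6, 8, 4, 9, 5, 7],
  [0, 1, 2, 3, 5, 8, 6, 4, 7, 9, 10],
  [0, 1, 2, 3, 10, 6, 8, 4, 9, 7, 5],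
  [0, 1, 2, 3, 9, 6, 8, 4, 10, 7, 5],
  [0, 1, 2, 3, 7, 8, 6, 4, 5, 9, 10],
  [0, 1, 2, 3, 9, 6, 8, 4, 10, 5, 7],
  [0, 1, 2, 3, 7, 8, 6, 4, 5, 10, 9],
  [0, 1, 2, 3, 8, 5, 6, 7, 4, 10, 9],
  [0, 1, 2, 3, 6, 10, 8, 9, 4, 5, 7],
  [0, 1, 2, 3, 6, 9, 8, 10, 4, 5, 7],
  [0, 1, 2, 3, 8, 7, 6, 5, 4, 10, 9],
  [0, 1, 2, 3, 8, 5, 6, 7, 4, 9, 10],
  [0, 1, 2, 3, 6, 10, 8, 9, 4, 7, 5],
  [0, 1, 2, 3, 6, 9, 8, 10, 4, 7, 5],
  [0, 1, 2, 3, 8, 7, 6, 5, 4, 9, 10]]

/-- The image of a mask under a relabelling. -/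
def mapMask (σ : List ℕ) (m : ℕ) : ℕ :=
  (List.range 11).foldl (fun acc i => if m.testBit i then acc ||| 2 ^ σ.getD i 0 else acc) 0

/-- The relabelling is a permutation of `0, ..., 10`. -/
def okRelabel (σ : List ℕ) : Bool :=
  (List.range 11).all fun i => Nat.blt (σ.getD i 0) 11 &&
    (List.range 11).all fun j => Nat.beq i j || !(Nat.beq (σ.getD i 0) (σ.getD j 0))

/-- The relabelling carries the system onto the standard one. -/
def works (σ L : List ℕ) : Bool :=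
  okRelabel σ && (fixedBlocks ++ L).all fun b => stdBlocks.any (Nat.beq (mapMask σ b))

/-- Each solution has its relabelling. -/
def checkAll : List (List ℕ) → List (List ℕ) → Bool
  | [], [] => true
  | L :: Ls, σ :: σs => works σ L && checkAll Ls σs
  | _, _ => false

theorem checkAll_sound : ∀ (Ls σs : List (List ℕ)), checkAll Ls σs = true →
    ∀ L ∈ Ls, ∃ σ ∈ σs, works σ L = true
  | [], _, _, L, hL => by simp at hL
  | _ :: _, [], h, _, _ => by simp [checkAll] at h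
  | L :: Ls, σ :: σs, h, M, hM => by
    simp only [checkAll, Bool.and_eq_true] at h
    rcases List.mem_cons.mp hM with rfl | hM
    · exact ⟨σ, List.mem_cons_self, h.1⟩
    · obtain ⟨τ, hτ, hw⟩ := checkAll_sound Ls σs h.2 M hM
      exact ⟨τ, List.mem_cons_of_mem _ hτ, hw⟩

theorem needList_length : needList.length = 310 := by decide +kernel

theorem search_result : checkAll (solve 311 needList candList) perms = true := by decide +kernel

theorem masks_spec : ((List.range 2048).all fun m =>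
    (!(Nat.beq (pop m) 4) || (fixedBlocks.any fun b => sub m b) || needList.elem m) &&
    (!(Nat.beq (pop m) 5) || !(fixedBlocks.all fun b => compat b m) || candList.elem m)) = true := by
  decide +kernel

end Cfsg.Agent.Lib.Steiner11
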