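import Cfsg.Agent.Lib.Steiner11.Search
import Cfsg.Agent.Lib.Golay.Steiner

/-!
Uniqueness of S(4,5,11) and S(5,6,12).
-/

set_option autoImplicit false
set_option linter.unusedSectionVars false

namespace Cfsg.Agent.Lib.Steiner11

open Finset
open Cfsg.Agent.Lib.Golay.Steiner (through card_through blocks mem_blocks)

/-- The mask of a set of `0, ..., 10`. -/
def mask (s : Finset (Fin 11)) : ℕ := ∑ i ∈ s, 2 ^ (i : ℕ)

theorem testBit_mask (s : Finset (Fin 11)) (i : Fin 11) :
    (mask s).testBit i = true ↔ i ∈ s := by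
  have h : ∑ i ∈ s, 2 ^ (i : ℕ) = ∑ j ∈ s.map Fin.valEmbedding, 2 ^ j := by simp [Finset.sum_map]
  rw [← Nat.mem_bitIndices, ← List.mem_toFinset, mask, h, Finset.toFinset_bitIndices_sum_two_pow]
  simp [Fin.val_inj]

theorem mask_lt (s : Finset (Fin 11)) : mask s < 2 ^ 11 := by
  have h : mask s ≤ mask univ := Finset.sum_le_sum_of_subset (Finset.subset_univ s)
  have e : mask univ < 2 ^ 11 := by decide +kernel
  omega

theorem testBit_mask_ge (s : Finset (Fin 11)) {i : ℕ} (hi : 11 ≤ i) :
    (mask s).testBit i = false :=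
  Nat.testBit_eq_false_of_lt ((mask_lt s).trans_le (Nat.pow_le_pow_right (by norm_num) hi))

theorem mask_injective : Function.Injective mask := fun s t h => by
  ext i
  rw [← testBit_mask, h, testBit_mask]

theorem sub_mask {s t : Finset (Fin 11)} : sub (mask s) (mask t) = true ↔ s ⊆ t := by
  rw [sub, Nat.beq_eq]
  constructor
  · intro h i hi
    have := congrArg (fun m => m.testBit i) h
    simp only [Nat.testBit_and, (testBit_mask s i).mpr hi, Bool.true_and] at this
    exact (testBit_mask t i).mp this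
  · intro h
    apply Nat.eq_of_testBit_eq
    intro i
    rcases Nat.lt_or_ge i 11 with hi | hi
    · rw [Nat.testBit_and]
      cases hs : (mask s).testBit i with
      | false => rfl
      | true => simp [(testBit_mask t ⟨i, hi⟩).mpr (h ((testBit_mask s ⟨i, hi⟩).mp hs))]
    · simp [testBit_mask_ge s hi]

theorem pop_mask (s : Finset (Fin 11)) : pop (mask s) = s.card := by
  revert s; decide +kernel

theorem xor_mask (s t : Finset (Fin 11)) : mask s ^^^ mask t = mask (symmDiff s t) := by
  apply Nat.eq_of_testBit_eq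
  intro i
  rcases Nat.lt_or_ge i 11 with hi | hi
  · have e : ∀ u : Finset (Fin 11), (mask u).testBit i = decide ((⟨i, hi⟩ : Fin 11) ∈ u) :=
      fun u => by
        rw [Bool.eq_iff_iff, decide_eq_true_iff]
        exact testBit_mask u ⟨i, hi⟩
    rw [Nat.testBit_xor, e, e, e]
    by_cases h1 : (⟨i, hi⟩ : Fin 11) ∈ s <;> by_cases h2 : (⟨i, hi⟩ : Fin 11) ∈ t <;>
      simp [Finset.mem_symmDiff, h1, h2]
  · simp [testBit_mask_ge _ hi]

theorem compat_zero_mask : ∀ u : Finset (Fin 11), 3 ≤ u.card → compat 0 (mask u) = true := by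
  decide +kernel

theorem compat_mask {s t : Finset (Fin 11)} (hs : s.card = 5) (ht : t.card = 5)
    (h : (s ∩ t).card < 4) : compat (mask s) (mask t) = true := by
  have e : mask s ^^^ mask t = mask (symmDiff s t) := xor_mask s t
  have hc : 3 ≤ (symmDiff s t).card := by
    have h1 := Finset.card_sdiff_add_card_inter s t
    have h2 := Finset.card_sdiff_add_card_inter t s
    rw [Finset.inter_comm t s] at h2
    rw [symmDiff_def, Finset.sup_eq_union, Finset.card_union_of_disjoint disjoint_sdiff_sdiff]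
    omega
  have := compat_zero_mask _ hc
  simp only [compat, Nat.zero_xor, e] at this ⊢
  exact this

theorem testBit_foldl (σ : List ℕ) (m : ℕ) : ∀ (l : List ℕ) (acc j : ℕ),
    (l.foldl (fun acc i => if m.testBit i then acc ||| 2 ^ σ.getD i 0 else acc) acc).testBit j = true ↔
      acc.testBit j = true ∨ ∃ i ∈ l, m.testBit i = true ∧ σ.getD i 0 = j
  | [], acc, j => by simp
  | x :: l, acc, j => by
    rw [List.foldl_cons, testBit_foldl σ m l]
    by_cases hx : m.testBit x = true <;>
      simp [hx, Nat.testBit_or, Nat.testBit_two_pow, or_assoc]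

theorem mapMask_mask {σ : List ℕ} (f : Fin 11 → Fin 11) (hf : ∀ i : Fin 11, σ.getD i 0 = f i)
    (s : Finset (Fin 11)) : mapMask σ (mask s) = mask (s.image f) := by
  apply Nat.eq_of_testBit_eq
  intro j
  rw [Bool.eq_iff_iff, mapMask, testBit_foldl]
  simp only [Nat.zero_testBit, Bool.false_eq_true, false_or, List.mem_range]
  constructor
  · rintro ⟨i, hi, h1, h2⟩
    have h2' := hf ⟨i, hi⟩
    simp only [h2] at h2'
    subst h2'
    exact (testBit_mask _ _).mpr
      (Finset.mem_image.mpr ⟨⟨i, hi⟩, (testBit_mask s ⟨i, hi⟩).mp h1, rfl⟩)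
  · intro hj
    rcases Nat.lt_or_ge j 11 with hj' | hj'
    · obtain ⟨i, hi, he⟩ := Finset.mem_image.mp ((testBit_mask _ ⟨j, hj'⟩).mp hj)
      exact ⟨i, i.2, (testBit_mask _ _).mpr hi, by rw [hf, he]⟩
    · simp [testBit_mask_ge _ hj'] at hj

/-- The standard S(4,5,11). -/
def stdSys : Set (Finset (Fin 11)) := {b | mask b ∈ stdBlocks}

theorem stdBlocks_compat : (stdBlocks.all fun b => Nat.beq (pop b) 5 &&
    stdBlocks.all fun c => Nat.beq b c || compat b c) = true := by decide +kernel

theorem compat_false_of_four : ∀ u : Finset (Fin 11), u.card ≤ 2 → compat 0 (mask u) = false := by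
  decide +kernel

theorem std_eq_of_four {b c s : Finset (Fin 11)} (hb : b ∈ stdSys) (hc : c ∈ stdSys)
    (hs : s.card = 4) (hsb : s ⊆ b) (hsc : s ⊆ c) : b = c := by
  have h := List.all_eq_true.mp stdBlocks_compat
  have h1 := h _ hb
  have h2 := h _ hc
  simp only [Bool.and_eq_true, Nat.beq_eq, pop_mask] at h1 h2
  have := List.all_eq_true.mp h1.2 _ hc
  simp only [Bool.or_eq_true, Nat.beq_eq] at this
  rcases this with e | e
  · exact mask_injective e
  · exfalso
    have h4 : 4 ≤ (b ∩ c).card := hs ▸ Finset.card_le_card (Finset.subset_inter hsb hsc)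
    have hsd : (symmDiff b c).card ≤ 2 := by
      have a1 := Finset.card_sdiff_add_card_inter b c
      have a2 := Finset.card_sdiff_add_card_inter c b
      rw [Finset.inter_comm c b] at a2
      rw [symmDiff_def, Finset.sup_eq_union, Finset.card_union_of_disjoint disjoint_sdiff_sdiff]
      omega
    have hf := compat_false_of_four _ hsd
    have ex : mask b ^^^ mask c = mask (symmDiff b c) := xor_mask b c
    simp only [compat, Nat.zero_xor, ex] at e hf
    rw [hf] at e
    exact Bool.false_ne_true e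

/-- The sets of the prescribed blocks. -/
def fixedSets : List (Finset (Fin 11)) := [{9, 10, 0, 1, 2}, {9, 10, 0, 3, 6}, {9, 10, 0, 4, 8},
  {9, 10, 0, 5, 7}]

theorem fixedSets_mask : fixedSets.map mask = fixedBlocks := by decide +kernel

theorem unique_of_fixed {B : Set (Finset (Fin 11))} (hB : IsSteinerSystem 4 5 B)
    (hfix : ∀ b ∈ fixedSets, b ∈ B) :
    ∃ σ : Equiv.Perm (Fin 11), ∀ b, b ∈ B ↔ b.map σ.toEmbedding ∈ stdSys := by
  classical
  let P : ℕ → Prop := fun m => ∃ b ∈ B, mask b = m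
  have hP : ∀ m n, P m → P n → m ≠ n → compat m n = true := by
    rintro _ _ ⟨b, hb, rfl⟩ ⟨c, hc, rfl⟩ hne
    exact compat_mask (hB.1 b hb) (hB.1 c hc)
      (Golay.Steiner.card_inter_lt hB hb hc fun e => hne (by rw [e]))
  have hfixP : ∀ m ∈ fixedBlocks, P m := by
    intro m hm
    rw [← fixedSets_mask, List.mem_map] at hm
    obtain ⟨b, hb, rfl⟩ := hm
    exact ⟨b, hfix b hb, rfl⟩
  have hspec := List.all_eq_true.mp masks_spec
  have hneed : ∀ T ∈ needList, ∃ m ∈ candList, P m ∧ sub T m = true := by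
    intro T hT
    have hTlen : ∀ T ∈ comb (List.range 11) 4, pop T = 4 ∧ T < 2048 := by
      have : ((comb (List.range 11) 4).all fun T => Nat.beq (pop T) 4 && Nat.blt T 2048) = true := by
        decide +kernel
      intro T hT
      simpa [Nat.beq_eq, Nat.blt_eq] using List.all_eq_true.mp this T hT
    rw [needList, List.mem_filter] at hT
    obtain ⟨hp, hlt⟩ := hTlen T hT.1
    set s : Finset (Fin 11) := univ.filter fun i => T.testBit i with hs
    have hTs : mask s = T := by
      apply Nat.eq_of_testBit_eq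
      intro i
      rcases Nat.lt_or_ge i 11 with hi | hi
      · rw [Bool.eq_iff_iff, testBit_mask _ ⟨i, hi⟩]; simp [hs]
      · rw [testBit_mask_ge _ hi]
        exact (Nat.testBit_eq_false_of_lt (hlt.trans_le (Nat.pow_le_pow_right (n := 2) (by norm_num) hi))).symm
    rw [← hTs, pop_mask] at hp
    obtain ⟨b, ⟨hb, hsb⟩, -⟩ := hB.2 s hp
    refine ⟨mask b, ?_, ⟨b, hb, rfl⟩, by rw [← hTs]; exact sub_mask.mpr hsb⟩
    have hm := hspec (mask b) (List.mem_range.mpr (mask_lt b))
    simp only [Bool.and_eq_true, Bool.or_eq_true, pop_mask, hB.1 b hb] at hm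
    rcases hm.2 with (h | h) | h
    · simp at h
    · exfalso
      simp only [Bool.not_eq_true', List.all_eq_false] at h
      obtain ⟨f, hf, hcf⟩ := h
      rcases eq_or_ne f (mask b) with e | e
      · have h3 := List.all_eq_true.mp hT.2 f hf
        rw [e, ← hTs, sub_mask.mpr hsb] at h3
        simp at h3
      · exact hcf (hP f _ (hfixP f hf) ⟨b, hb, rfl⟩ e)
    · exact List.elem_iff.mp h
  obtain ⟨L, hL, hLP, hLc⟩ := solve_sound P hP 311 needList candList
    (by rw [needList_length]; norm_num) hneed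
  obtain ⟨σl, -, hw⟩ := checkAll_sound _ _ search_result L hL
  simp only [works, okRelabel, Bool.and_eq_true, List.all_eq_true, List.mem_range, Nat.blt_eq,
    Bool.or_eq_true, Nat.beq_eq, Bool.not_eq_true'] at hw
  obtain ⟨hok, hwL⟩ := hw
  let f : Fin 11 → Fin 11 := fun i => ⟨σl.getD i 0, (hok i i.2).1⟩
  have hfi : Function.Injective f := fun i j e => by
    rcases (hok i i.2).2 j j.2 with h | h
    · exact Fin.ext h
    · rw [Bool.eq_false_iff, ne_eq, Nat.beq_eq] at h
      exact absurd (congrArg Fin.val e) h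
  let σ : Equiv.Perm (Fin 11) := Equiv.ofBijective f (Finite.injective_iff_bijective.mp hfi)
  refine ⟨σ, ?_⟩
  have hmap : ∀ b : Finset (Fin 11), mask (b.map σ.toEmbedding) = mapMask σl (mask b) := fun b => by
    rw [mapMask_mask f (fun _ => rfl), Finset.map_eq_image]
    rfl
  have hcover : ∀ s : Finset (Fin 11), s.card = 4 → ∃ b ∈ B, s ⊆ b ∧ b.map σ.toEmbedding ∈ stdSys := by
    intro s hs
    have hm := hspec (mask s) (List.mem_range.mpr (mask_lt s))
    simp only [Bool.and_eq_true, Bool.or_eq_true, pop_mask, hs] at hm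
    obtain ⟨m, hm, hsm, hPm⟩ : ∃ m ∈ fixedBlocks ++ L, sub (mask s) m = true ∧ P m := by
      rcases hm.1 with (h | h) | h
      · simp at h
      · obtain ⟨m, hm, h2⟩ := List.any_eq_true.mp h
        exact ⟨m, List.mem_append_left _ hm, h2, hfixP m hm⟩
      · obtain ⟨m, hm, h2⟩ := hLc _ (List.elem_iff.mp h)
        exact ⟨m, List.mem_append_right _ hm, h2, hLP m hm⟩
    obtain ⟨b, hb, rfl⟩ := hPm
    refine ⟨b, hb, sub_mask.mp hsm, ?_⟩
    show mask (b.map σ.toEmbedding) ∈ stdBlocks
    obtain ⟨c, hc, hc'⟩ := List.any_eq_true.mp (hwL _ hm)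
    rw [hmap, Nat.eq_of_beq_eq_true hc']
    exact hc
  intro b
  constructor
  · intro hb
    obtain ⟨s, hs, hs4⟩ := Finset.exists_subset_card_eq (show 4 ≤ b.card by rw [hB.1 b hb]; norm_num)
    obtain ⟨b', hb', hsb', hmem⟩ := hcover s hs4
    rwa [Golay.Steiner.eq_of_subset hB hb hb' hs4.ge hs hsb']
  · intro hb
    have h5 : b.card = 5 := by
      have := List.all_eq_true.mp stdBlocks_compat _ hb
      simp only [Bool.and_eq_true, Nat.beq_eq, pop_mask, Finset.card_map] at this
      exact this.1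
    obtain ⟨s, hs, hs4⟩ := Finset.exists_subset_card_eq (show 4 ≤ b.card by omega)
    obtain ⟨b', hb', hsb', hmem⟩ := hcover s hs4
    have := std_eq_of_four (s := s.map σ.toEmbedding) hb hmem (by rw [Finset.card_map, hs4])
      (Finset.map_subset_map.mpr hs) (Finset.map_subset_map.mpr hsb')
    rw [Finset.map_inj] at this
    rwa [this]

variable {α β : Type*} [Fintype α] [DecidableEq α] [Fintype β] [DecidableEq β]

theorem exists_labelling {B : Set (Finset α)} (hα : Fintype.card α = 11)
    (hB : IsSteinerSystem 4 5 B) :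
    ∃ e : Fin 11 ≃ α, ∀ b ∈ fixedSets, b.map e.toEmbedding ∈ B := by
  classical
  obtain ⟨T, -, hT⟩ := Finset.exists_subset_card_eq (s := (univ : Finset α)) (n := 3)
    (by rw [Finset.card_univ, hα]; norm_num)
  obtain ⟨p, q, r, hpq, hpr, hqr, rfl⟩ := Finset.card_eq_three.mp hT
  set T : Finset α := {p, q, r} with hTdef
  have hcount : (through B T).card = 4 := by
    have h := card_through hB T (by omega)
    rw [hT, hα] at h
    norm_num [Nat.choose] at h
    omega
  obtain ⟨b1, b2, b3, b4, h12, h13, h14, h23, h24, h34, hall⟩ := Finset.card_eq_four.mp hcount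
  have hmem : ∀ b ∈ ({b1, b2, b3, b4} : Finset (Finset α)), b ∈ B ∧ T ⊆ b := fun b hb => by
    rw [← hall, through, Finset.mem_filter, mem_blocks] at hb; exact hb
  have hpair : ∀ b ∈ ({b1, b2, b3, b4} : Finset (Finset α)), ∃ u v, b = T ∪ {u, v} := by
    intro b hb
    obtain ⟨hbB, hTb⟩ := hmem b hb
    obtain ⟨u, v, -, huv⟩ := Finset.card_eq_two.mp (show (b \ T).card = 2 by
      rw [Finset.card_sdiff_of_subset hTb, hB.1 b hbB, hT])
    exact ⟨u, v, by rw [← huv, Finset.union_sdiff_of_subset hTb]⟩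
  obtain ⟨u1, v1, e1⟩ := hpair b1 (by simp)
  obtain ⟨u2, v2, e2⟩ := hpair b2 (by simp)
  obtain ⟨u3, v3, e3⟩ := hpair b3 (by simp)
  obtain ⟨u4, v4, e4⟩ := hpair b4 (by simp)
  let f : Fin 11 → α := ![r, u1, v1, u2, u3, u4, v2, v4, v3, p, q]
  have hsurj : Function.Surjective f := by
    intro x
    by_cases hx : x ∈ T
    · simp only [hTdef, Finset.mem_insert, Finset.mem_singleton] at hx
      rcases hx with rfl | rfl | rfl
      exacts [⟨9, rfl⟩, ⟨10, rfl⟩, ⟨0, rfl⟩]
    · obtain ⟨b, ⟨hb, hsb⟩, -⟩ := hB.2 (insert x T) (by rw [Finset.card_insert_of_notMem hx, hT])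
      rw [Finset.insert_subset_iff] at hsb
      have : b ∈ through B T := Finset.mem_filter.mpr ⟨mem_blocks.mpr hb, hsb.2⟩
      rw [hall] at this
      simp only [Finset.mem_insert, Finset.mem_singleton] at this
      have hxb := hsb.1
      rcases this with e | e | e | e <;> rw [e] at hxb <;>
        simp only [e1, e2, e3, e4, Finset.mem_union, hx, false_or, Finset.mem_insert,
          Finset.mem_singleton] at hxb <;> rcases hxb with rfl | rfl
      exacts [⟨1, rfl⟩, ⟨2, rfl⟩, ⟨3, rfl⟩, ⟨6, rfl⟩, ⟨4, rfl⟩, ⟨8, rfl⟩, ⟨5, rfl⟩, ⟨7, rfl⟩]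
  refine ⟨Equiv.ofBijective f ((Fintype.bijective_iff_surjective_and_card f).mpr
    ⟨hsurj, by rw [Fintype.card_fin, hα]⟩), fun b hb => ?_⟩
  have hT' : T = ({p, q, r} : Finset α) := rfl
  simp only [fixedSets, List.mem_cons, List.not_mem_nil, or_false] at hb
  rcases hb with rfl | rfl | rfl | rfl
  · convert (hmem b1 (by simp)).1 using 1
    rw [e1, hT']; ext y; simp [f]; tauto
  · convert (hmem b2 (by simp)).1 using 1
    rw [e2, hT']; ext y; simp [f]; tauto
  · convert (hmem b3 (by simp)).1 using 1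
    rw [e3, hT']; ext y; simp [f]; tauto
  · convert (hmem b4 (by simp)).1 using 1
    rw [e4, hT']; ext y; simp [f]; tauto

theorem iso_std {B : Set (Finset α)} (hα : Fintype.card α = 11) (hB : IsSteinerSystem 4 5 B) :
    ∃ e : α ≃ Fin 11, ∀ b, b ∈ B ↔ b.map e.toEmbedding ∈ stdSys := by
  obtain ⟨e, he⟩ := exists_labelling hα hB
  let B' : Set (Finset (Fin 11)) := {b | b.map e.toEmbedding ∈ B}
  have hB' : IsSteinerSystem 4 5 B' := by
    refine ⟨fun b hb => by rw [← Finset.card_map e.toEmbedding]; exact hB.1 _ hb, fun s hs => ?_⟩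
    obtain ⟨c, ⟨hc, hsc⟩, hu⟩ := hB.2 (s.map e.toEmbedding) (by rw [Finset.card_map, hs])
    have hce : (c.map e.symm.toEmbedding).map e.toEmbedding = c := by simp [Finset.map_map]
    refine ⟨c.map e.symm.toEmbedding, ⟨?_, ?_⟩, fun d hd => ?_⟩
    · show _ ∈ B; rw [hce]; exact hc
    · intro i hi
      rw [Finset.mem_map_equiv, Equiv.symm_symm]
      exact hsc (Finset.mem_map_of_mem _ hi)
    · have := hu (d.map e.toEmbedding) ⟨hd.1, Finset.map_subset_map.mpr hd.2⟩
      rw [← this]; simp [Finset.map_map]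
  obtain ⟨σ, hσ⟩ := unique_of_fixed hB' he
  refine ⟨e.symm.trans σ, fun b => ?_⟩
  have h := hσ (b.map e.symm.toEmbedding)
  simp only [B', Set.mem_ofPred_eq, Finset.map_map] at h
  simpa [Finset.map_map, Equiv.trans_toEmbedding] using h

theorem unique_four {B : Set (Finset α)} {B' : Set (Finset β)} (hα : Fintype.card α = 11)
    (hβ : Fintype.card β = 11) (hB : IsSteinerSystem 4 5 B) (hB' : IsSteinerSystem 4 5 B') :
    ∃ f : α ≃ β, ∀ b, b ∈ B ↔ b.map f.toEmbedding ∈ B' := by
  obtain ⟨e, he⟩ := iso_std hα hB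
  obtain ⟨e', he'⟩ := iso_std hβ hB'
  refine ⟨e.trans e'.symm, fun b => ?_⟩
  rw [he, he', Finset.map_map]
  congr! 2
  exact Function.Embedding.ext fun x => by simp

theorem compl_mem {B : Set (Finset α)} (hα : Fintype.card α = 12) (hB : IsSteinerSystem 5 6 B)
    {b : Finset α} (hb : b ∈ B) : bᶜ ∈ B := by
  obtain ⟨h0, -⟩ := Golay.Steiner.meeting_twelve hα hB hb
  obtain ⟨c, hc⟩ := Finset.card_pos.mp (show 0 < (Golay.Steiner.meeting B b 0).card by omega)
  obtain ⟨hc, -, h⟩ := Golay.Steiner.mem_meeting.mp hc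
  have : c = bᶜ := by
    refine Finset.eq_of_subset_of_card_le (fun x hx => Finset.mem_compl.mpr fun hxb => ?_) ?_
    · rw [Finset.card_eq_zero] at h
      exact Finset.notMem_empty x (h ▸ Finset.mem_inter.mpr ⟨hxb, hx⟩)
    · rw [Finset.card_compl, hα, hB.1 b hb, hB.1 c hc]
  exact this ▸ hc

/-- The derived system at a point. -/
abbrev derivedAt (B : Set (Finset α)) (p : α) : Set (Finset {a : α // a ≠ p}) :=
  {b' | ∃ b ∈ B, p ∈ b ∧ b' = Finset.subtype (fun a => a ≠ p) b}

theorem mem_derivedAt {B : Set (Finset α)} {p : α} {b : Finset α} (hp : p ∈ b) :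
    Finset.subtype (fun a => a ≠ p) b ∈ derivedAt B p ↔ b ∈ B := by
  refine ⟨fun ⟨c, hc, hpc, e⟩ => ?_, fun hb => ⟨b, hb, hp, rfl⟩⟩
  suffices b = c from this ▸ hc
  ext x
  rcases eq_or_ne x p with rfl | hx
  · exact iff_of_true hp hpc
  · have := Finset.ext_iff.mp e ⟨x, hx⟩
    simpa using this

theorem unique_five {B : Set (Finset α)} {B' : Set (Finset β)} (hα : Fintype.card α = 12)
    (hβ : Fintype.card β = 12) (hB : IsSteinerSystem 5 6 B) (hB' : IsSteinerSystem 5 6 B') :
    ∃ f : α ≃ β, ∀ b, b ∈ B ↔ b.map f.toEmbedding ∈ B' := by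
  obtain ⟨p⟩ : Nonempty α := Fintype.card_pos_iff.mp (by omega)
  obtain ⟨p'⟩ : Nonempty β := Fintype.card_pos_iff.mp (by omega)
  obtain ⟨g, hg⟩ := unique_four (α := {a : α // a ≠ p}) (β := {a : β // a ≠ p'})
    (by rw [Fintype.card_subtype_compl, Fintype.card_subtype_eq, hα])
    (by rw [Fintype.card_subtype_compl, Fintype.card_subtype_eq, hβ])
    (Golay.Steiner.derived (t := 4) (k := 5) hB p) (Golay.Steiner.derived (t := 4) (k := 5) hB' p')
  let f : α ≃ β := (Equiv.optionSubtypeNe p).symm.trans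
    ((Equiv.optionCongr g).trans (Equiv.optionSubtypeNe p'))
  have hfp : f p = p' := by simp [f]
  have hfx : ∀ x : {a : α // a ≠ p}, f x = (g x : β) := fun x => by
    simp [f, Equiv.optionSubtypeNe_symm_of_ne x.2]
  have key : ∀ b : Finset α, p ∈ b → (b ∈ B ↔ b.map f.toEmbedding ∈ B') := by
    intro b hb
    have hp' : p' ∈ b.map f.toEmbedding := hfp ▸ Finset.mem_map_of_mem f.toEmbedding hb
    rw [← mem_derivedAt hb, ← mem_derivedAt hp', hg]
    suffices e : (Finset.subtype (fun a => a ≠ p) b).map g.toEmbedding =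
        Finset.subtype (fun a => a ≠ p') (b.map f.toEmbedding) by rw [e]
    ext y
    obtain ⟨x, rfl⟩ := g.surjective y
    rw [← Equiv.coe_toEmbedding, Finset.mem_map', Finset.mem_subtype, Finset.mem_subtype,
      Equiv.coe_toEmbedding, ← hfx, ← Equiv.coe_toEmbedding f, Finset.mem_map']
  refine ⟨f, fun b => ?_⟩
  by_cases hb : p ∈ b
  · exact key b hb
  · have hc : bᶜ.map f.toEmbedding = (b.map f.toEmbedding)ᶜ := by
      ext y; simp [Finset.mem_map_equiv]
    have h := key bᶜ (Finset.mem_compl.mpr hb)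
    rw [hc] at h
    constructor
    · intro hbB
      simpa using compl_mem hβ hB' (h.mp (compl_mem hα hB hbB))
    · intro hbB
      simpa using compl_mem hα hB (h.mpr (compl_mem hβ hB' hbB))

end Cfsg.Agent.Lib.Steiner11
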